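import Mathlib.Data.Nat.Prime.Basic
import Mathlib.Algebra.BigOperators.Fin
import Mathlib.Data.Fin.VecNotation
import Mathlib.Tactic

/-!
# S4546, row Co3, box Q2: the integer lemma (helper734)
-/
set_option autoImplicit false
set_option maxRecDepth 100000

namespace Cfsg.Agent.H734.KKL

/-- values at the central involution of the seven rows `100 010 001 111 110 101 011` -/
def rr : Fin 7 → ℤ := ![16, 16, 144, 176, 32, 160, 160]

/-- values at an element of order 10 -/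
def tt : Fin 7 → ℤ := ![1, 1, -1, 1, 2, 0, 0]

namespace CoThreeInt

/-- prime power divisors, one prime at a time -/
theorem pow_part {p k m : ℕ} (hp : p.Prime) (N : ℕ) (h : m ∣ p ^ k * N) :
    ∃ a, a ≤ k ∧ ∃ m', m' ∣ N ∧ m = p ^ a * m' := by
  obtain ⟨k1, k2, h1, h2, rfl⟩ := (Nat.dvd_mul).1 h
  obtain ⟨a, ha, rfl⟩ := (Nat.dvd_prime_pow hp).1 h1
  exact ⟨a, ha, k2, h2, rfl⟩

/-- the positive divisors of `495766656000` -/
def L : List ℕ :=
  (List.range 11).flatMap fun a => (List.range 8).flatMap fun b => (List.range 4).flatMap fun c =>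
    (List.range 2).flatMap fun d => (List.range 2).flatMap fun e => (List.range 2).map fun f =>
      2 ^ a * (3 ^ b * (5 ^ c * (7 ^ d * (11 ^ e * 23 ^ f))))

theorem mem_L {m : ℕ} (h : m ∣ 495766656000) : m ∈ L := by
  have hN : (495766656000 : ℕ) = 2 ^ 10 * (3 ^ 7 * (5 ^ 3 * (7 ^ 1 * (11 ^ 1 * (23 ^ 1 * 1))))) := by norm_num
  rw [hN] at h
  obtain ⟨a, ha, m1, h1, rfl⟩ := pow_part (by norm_num) _ h
  obtain ⟨b, hb, m2, h2, rfl⟩ := pow_part (by norm_num) _ h1
  obtain ⟨c, hc, m3, h3, rfl⟩ := pow_part (by norm_num) _ h2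
  obtain ⟨d, hd, m4, h4, rfl⟩ := pow_part (by norm_num) _ h3
  obtain ⟨e, he, m5, h5, rfl⟩ := pow_part (by norm_num) _ h4
  obtain ⟨f, hf, m6, h6, rfl⟩ := pow_part (by norm_num) _ h5
  have h7 : m6 = 1 := Nat.dvd_one.1 h6
  subst h7
  simp only [L, List.mem_flatMap, List.mem_map, List.mem_range]
  exact ⟨a, by omega, b, by omega, c, by omega, d, by omega, e, by omega, f, by omega, by rw [mul_one]⟩

/-- the common tests -/
def tst (r s : ℤ) : Bool :=
  decide (s % 16 = 0) && (decide (s * s < 495766656000) && (decide ((2608200 * r) % s = 0) &&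
  (decide (((2608200 * r / s * (2608200 * r / s) - 1) * s) % 11 = 0) &&
  (decide (s % 23 = 0) || decide ((s - 1) % 23 = 0) || decide ((s + 1) % 23 = 0) || decide ((s - 11) % 23 = 0) ||
    decide ((s + 11) % 23 = 0)))))

/-- candidates, row 0 -/
def c0 : List ℤ :=
[-417312, -347760, -238464, -198720, -165600, -92736, -86400, -77280, -64400, -44160, -40320, -36800, -20608,
  -19872, -16560, -7728, -7200, -4416, -3680, -1920, -896, -368, -160, 160, 368, 896, 1920, 3680, 4416, 7200,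
  7728, 16560, 19872, 20608, 36800, 40320, 44160, 64400, 77280, 86400, 92736, 165600, 198720, 238464, 347760,
  417312]

/-- candidates, row 2 -/
def c2 : List ℤ :=
[-695520, -579600, -397440, -331200, -185472, -178848, -154560, -149040, -136080, -128800, -93312, -73600,
  -69552, -39744, -33120, -27600, -15456, -12880, -8832, -7360, -5600, -3312, -3024, -736, 736, 3024, 3312,
  5600, 7360, 8832, 12880, 15456, 27600, 33120, 39744, 69552, 73600, 93312, 128800, 136080, 149040, 154560,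
  178848, 185472, 331200, 397440, 579600, 695520]

/-- candidates, row 3 -/
def c3 : List ℤ :=
[-680064, -655776, -607200, -570240, -566720, -546480, -510048, -485760, -443520, -437184, -425040, -404800,
  -364320, -340032, -327888, -303600, -291456, -285120, -283360, -255024, -246400, -242880, -226688, -218592,
  -202400, -182160, -170016, -161920, -158400, -145728, -141680, -133056, -123200, -121440, -113344, -109296,
  -101200, -97152, -85008, -80960, -79200, -72864, -66528, -60720, -56672, -48576, -40480, -36960, -36432,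
  -32384, -28336, -24288, -23760, -20240, -18480, -16192, -12672, -12144, -9856, -8096, -6336, -4048, -3520,
  -1760, -528, 528, 1760, 3520, 4048, 6336, 8096, 9856, 12144, 12672, 16192, 18480, 20240, 23760, 24288,
  28336, 32384, 36432, 36960, 40480, 48576, 56672, 60720, 66528, 72864, 79200, 80960, 85008, 97152, 101200,
  109296, 113344, 121440, 123200, 133056, 141680, 145728, 158400, 161920, 170016, 182160, 202400, 218592,
  226688, 242880, 246400, 255024, 283360, 285120, 291456, 303600, 327888, 340032, 364320, 404800, 425040,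
  437184, 443520, 485760, 510048, 546480, 566720, 570240, 607200, 655776, 680064]

/-- candidates, row 4 -/
def c4 : List ℤ :=
[-695520, -476928, -397440, -331200, -185472, -172800, -154560, -128800, -88320, -73600, -41216, -39744,
  -33120, -15456, -8832, -7360, -5600, -3840, -736, 736, 3840, 5600, 7360, 8832, 15456, 33120, 39744, 41216,
  73600, 88320, 128800, 154560, 172800, 185472, 331200, 397440, 476928, 695520]

/-- candidates, row 5 -/
def c5 : List ℤ :=
[-644000, -441600, -417312, -368000, -324000, -238464, -206080, -198720, -165600, -92736, -86400, -77280,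
  -52992, -44160, -40320, -36800, -20608, -19872, -7200, -4416, -3680, -1920, -896, -160, 160, 896, 1920,
  3680, 4416, 7200, 19872, 20608, 36800, 40320, 44160, 52992, 77280, 86400, 92736, 165600, 198720, 206080,
  238464, 324000, 368000, 417312, 441600, 644000]

/-- the triples (s 0, s 3, s 4) -/
def T : List (ℤ × ℤ × ℤ) :=
[(896,32384,172800), (896,-226688,172800), (896,246400,-41216), (896,-12672,-41216), (-896,-32384,-172800),
  (-896,226688,-172800), (-896,-246400,41216), (-896,12672,41216), (44160,-32384,41216),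
  (44160,226688,-476928), (44160,-246400,-3840), (44160,485760,-476928), (44160,12672,-3840),
  (44160,-291456,41216), (-44160,32384,-41216), (-44160,-226688,476928), (-44160,246400,3840),
  (-44160,-485760,476928), (-44160,-12672,3840), (-44160,291456,-41216), (40320,161920,3840),
  (40320,-97152,3840), (40320,-570240,476928), (-40320,-161920,-3840), (-40320,97152,-3840),
  (-40320,570240,-476928), (86400,443520,-88320), (-86400,-443520,88320), (238464,291456,-88320),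
  (-238464,-291456,88320)]

theorem chk0 : ∀ m ∈ L, ∀ s ∈ [(m : ℤ), -(m : ℤ)], s % 256 ≠ 0 → tst 16 s = true → s ∈ c0 := by decide +kernel
theorem chk2 : ∀ m ∈ L, ∀ s ∈ [(m : ℤ), -(m : ℤ)], s % 256 ≠ 0 → tst 144 s = true → s ∈ c2 := by decide +kernel
theorem chk3 : ∀ m ∈ L, ∀ s ∈ [(m : ℤ), -(m : ℤ)], s % 256 ≠ 0 → tst 176 s = true → s ∈ c3 := by decide +kernel
theorem chk4 : ∀ m ∈ L, ∀ s ∈ [(m : ℤ), -(m : ℤ)], s % 32 = 0 → tst 32 s = true → s ∈ c4 := by decide +kernel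
theorem chk5 : ∀ m ∈ L, ∀ s ∈ [(m : ℤ), -(m : ℤ)], s % 32 = 0 → tst 160 s = true → s ∈ c5 := by decide +kernel

theorem chkT : ∀ s0 ∈ c0, ∀ s3 ∈ c3, (s3 - 11 * s0) % 1024 = 0 → ∀ s4 ∈ c4, (s4 - 2 * s0) % 1024 = 0 →
    (-(s0 + s3 + s4) - 10 * s0) % 1024 = 0 → -(s0 + s3 + s4) ∈ c5 → (s0, s3, s4) ∈ T := by decide +kernel

/-- the six solutions -/
def S6 : List (ℤ × ℤ × ℤ × ℤ) :=
  [(896, 896, -12672, -41216), (-896, -896, 12672, 41216), (44160, 44160, 12672, -3840),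
   (-44160, -44160, -12672, 3840), (40320, 40320, -97152, 3840), (-40320, -40320, 97152, -3840)]

theorem chkS : ∀ a ∈ T, ∀ b ∈ T, a.2 = b.2 → (b.1 - a.1) % 1024 = 0 →
    (a.1 + b.1 + a.2.1 + 2 * a.2.2 - 9 * a.1) % 1024 = 0 → a.1 + b.1 + a.2.1 + 2 * a.2.2 ∈ c2 →
    (a.1, b.1, a.2.1, a.2.2) ∈ S6 := by decide +kernel

theorem mem_abs {s : ℤ} (h : s ∣ 495766656000) : s.natAbs ∈ L := by
  refine mem_L ?_
  have := Int.natAbs_dvd_natAbs.2 h
  simpa using this

theorem mem_pm (s : ℤ) : s ∈ [(s.natAbs : ℤ), -(s.natAbs : ℤ)] := by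
  rcases Int.natAbs_eq s with h | h
  · rw [List.mem_cons]
    exact Or.inl h
  · rw [List.mem_cons, List.mem_singleton]
    exact Or.inr h

theorem tst_of {r s : ℤ} (h16 : s % 16 = 0) (hsq : s * s < 495766656000) (hdiv : s ∣ 495766656000)
    (h11 : ∃ w : ℤ, w * s = 2608200 * r ∧ (11 : ℤ) ∣ (w * w - 1) * s)
    (h23 : (23 : ℤ) ∣ s ∨ ∃ e : ℤ, (e = 1 ∨ e = -1 ∨ e = 11 ∨ e = -11) ∧ (23 : ℤ) ∣ s - e) : tst r s = true := by
  have hs0 : s ≠ 0 := by
    rintro rfl
    rw [zero_dvd_iff] at hdiv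
    norm_num at hdiv
  obtain ⟨w, hw, h11⟩ := h11
  have e1 : 2608200 * r / s = w := by rw [← hw, Int.mul_ediv_cancel _ hs0]
  have e2 : (2608200 * r) % s = 0 := by rw [← hw, Int.mul_emod_left]
  simp only [tst, Bool.and_eq_true, Bool.or_eq_true, decide_eq_true_eq]
  refine ⟨h16, hsq, e2, ?_, ?_⟩
  · rw [e1]
    exact Int.emod_eq_zero_of_dvd h11
  · rcases h23 with h | ⟨e, rfl | rfl | rfl | rfl, h⟩
    · left; left; left; left
      omega
    · left; left; left; right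
      omega
    · left; left; right
      omega
    · left; right
      omega
    · right
      omega

end CoThreeInt

open CoThreeInt

/-- residues modulo 5 of the six solutions, and the column `v` -/
theorem CoThreeInt.vkill : ∀ a ∈ S6, ∀ v0 ∈ (List.range 35).map (fun k : ℕ => (k : ℤ) - 17), (v0 - 1) % 4 = 0 →
    (v0 - a.1) % 5 = 0 → ∀ v1 ∈ (List.range 35).map (fun k : ℕ => (k : ℤ) - 17), (v1 - 1) % 4 = 0 →
    (v1 - a.2.1) % 5 = 0 → ∀ v3 ∈ (List.range 35).map (fun k : ℕ => (k : ℤ) - 17), (v3 - 1) % 4 = 0 →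
    (v3 - a.2.2.1) % 5 = 0 → ∀ v4 ∈ (List.range 35).map (fun k : ℕ => (k : ℤ) - 17), (v4 - 2) % 4 = 0 →
    (v4 - a.2.2.2) % 5 = 0 →
    300 < v0 * v0 + v1 * v1 + (v0 + v1 + v3 + 2 * v4) * (v0 + v1 + v3 + 2 * v4) + v3 * v3 + v4 * v4 +
      (v0 + v3 + v4) * (v0 + v3 + v4) + (v1 + v3 + v4) * (v1 + v3 + v4) := by decide +kernel

/-- box Q2 -/
theorem Q2 (s v : Fin 7 → ℤ) (n : ℤ) (hT : ∀ i, (1024 : ℤ) ∣ s i + rr i * n) (h7 : ∀ i < 4, ¬ (256 : ℤ) ∣ s i)
    (hdiv : ∀ i, s i ∣ 495766656000) (hsq : ∀ i, s i * s i < 495766656000)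
    (h11 : ∀ i, ∃ w : ℤ, w * s i = 2608200 * rr i ∧ (11 : ℤ) ∣ (w * w - 1) * s i)
    (h23 : ∀ i, (23 : ℤ) ∣ s i ∨ ∃ e : ℤ, (e = 1 ∨ e = -1 ∨ e = 11 ∨ e = -11) ∧ (23 : ℤ) ∣ s i - e)
    (r1 : s 0 + s 3 + s 4 + s 5 = 0) (r2 : s 1 + s 3 + s 4 + s 6 = 0) (r3 : s 2 + s 3 + s 5 + s 6 = 0)
    (q1 : v 0 + v 3 + v 4 + v 5 = 0) (q2 : v 1 + v 3 + v 4 + v 6 = 0) (q3 : v 2 + v 3 + v 5 + v 6 = 0)
    (hv5 : ∀ i, (5 : ℤ) ∣ v i - s i) (hv4 : ∀ i, (4 : ℤ) ∣ v i - tt i) (hvs : ∑ i, v i * v i ≤ 300) : False := by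
  have t0 : (1024 : ℤ) ∣ s 0 + 16 * n := hT 0
  have t1 : (1024 : ℤ) ∣ s 1 + 16 * n := hT 1
  have t2 : (1024 : ℤ) ∣ s 2 + 144 * n := hT 2
  have t3 : (1024 : ℤ) ∣ s 3 + 176 * n := hT 3
  have t4 : (1024 : ℤ) ∣ s 4 + 32 * n := hT 4
  have t5 : (1024 : ℤ) ∣ s 5 + 160 * n := hT 5
  have t6 : (1024 : ℤ) ∣ s 6 + 160 * n := hT 6
  have g0 : ¬ (256 : ℤ) ∣ s 0 := h7 0 (by decide)
  have g1 : ¬ (256 : ℤ) ∣ s 1 := h7 1 (by decide)
  have g2 : ¬ (256 : ℤ) ∣ s 2 := h7 2 (by decide)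
  have g3 : ¬ (256 : ℤ) ∣ s 3 := h7 3 (by decide)
  have m0 : s 0 ∈ c0 := chk0 _ (mem_abs (hdiv 0)) _ (mem_pm _) (by omega)
    (tst_of (by omega) (hsq 0) (hdiv 0) (h11 0) (h23 0))
  have m1 : s 1 ∈ c0 := chk0 _ (mem_abs (hdiv 1)) _ (mem_pm _) (by omega)
    (tst_of (by omega) (hsq 1) (hdiv 1) (h11 1) (h23 1))
  have m2 : s 2 ∈ c2 := chk2 _ (mem_abs (hdiv 2)) _ (mem_pm _) (by omega)
    (tst_of (by omega) (hsq 2) (hdiv 2) (h11 2) (h23 2))
  have m3 : s 3 ∈ c3 := chk3 _ (mem_abs (hdiv 3)) _ (mem_pm _) (by omega)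
    (tst_of (by omega) (hsq 3) (hdiv 3) (h11 3) (h23 3))
  have m4 : s 4 ∈ c4 := chk4 _ (mem_abs (hdiv 4)) _ (mem_pm _) (by omega)
    (tst_of (by omega) (hsq 4) (hdiv 4) (h11 4) (h23 4))
  have m5 : s 5 ∈ c5 := chk5 _ (mem_abs (hdiv 5)) _ (mem_pm _) (by omega)
    (tst_of (by omega) (hsq 5) (hdiv 5) (h11 5) (h23 5))
  have m6 : s 6 ∈ c5 := chk5 _ (mem_abs (hdiv 6)) _ (mem_pm _) (by omega)
    (tst_of (by omega) (hsq 6) (hdiv 6) (h11 6) (h23 6))
  have e5 : s 5 = -(s 0 + s 3 + s 4) := by omega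
  have e6 : s 6 = -(s 1 + s 3 + s 4) := by omega
  have e2 : s 2 = s 0 + s 1 + s 3 + 2 * s 4 := by omega
  have T0 : (s 0, s 3, s 4) ∈ T :=
    chkT _ m0 _ m3 (by omega) _ m4 (by omega) (by omega) (by rw [← e5]; exact m5)
  have T1 : (s 1, s 3, s 4) ∈ T :=
    chkT _ m1 _ m3 (by omega) _ m4 (by omega) (by omega) (by rw [← e6]; exact m6)
  have h6 := chkS _ T0 _ T1 rfl (by show (s 1 - s 0) % 1024 = 0; omega) (by
    show (s 0 + s 1 + s 3 + 2 * s 4 - 9 * s 0) % 1024 = 0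
    omega) (by
    show s 0 + s 1 + s 3 + 2 * s 4 ∈ c2
    rw [← e2]; exact m2)
  -- the column v
  have hv : v 0 * v 0 + v 1 * v 1 + v 2 * v 2 + v 3 * v 3 + v 4 * v 4 + v 5 * v 5 + v 6 * v 6 ≤ 300 := by
    have := hvs
    simp only [Fin.sum_univ_succ, Fin.sum_univ_zero] at this
    calc _ = _ := ?_
      _ ≤ 300 := this
    simp [add_assoc]
  have bd : ∀ x : ℤ, x * x ≤ 300 → x ∈ (List.range 35).map (fun k : ℕ => (k : ℤ) - 17) := by
    intro x hx
    have h1 : x < 18 := by nlinarith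
    have h2 : -18 < x := by nlinarith
    rw [List.mem_map]
    exact ⟨(x + 17).toNat, by rw [List.mem_range]; omega, by omega⟩
  have w0 : (4 : ℤ) ∣ v 0 - 1 := hv4 0
  have w1 : (4 : ℤ) ∣ v 1 - 1 := hv4 1
  have w3 : (4 : ℤ) ∣ v 3 - 1 := hv4 3
  have w4 : (4 : ℤ) ∣ v 4 - 2 := hv4 4
  have f5 : v 5 = -(v 0 + v 3 + v 4) := by omega
  have f6 : v 6 = -(v 1 + v 3 + v 4) := by omega
  have f2 : v 2 = v 0 + v 1 + v 3 + 2 * v 4 := by omega
  have n0 := mul_self_nonneg (v 0)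
  have n1 := mul_self_nonneg (v 1)
  have n2 := mul_self_nonneg (v 2)
  have n3 := mul_self_nonneg (v 3)
  have n4 := mul_self_nonneg (v 4)
  have n5 := mul_self_nonneg (v 5)
  have n6 := mul_self_nonneg (v 6)
  have key := vkill _ h6 (v 0) (bd _ (by linarith)) (by omega) (Int.emod_eq_zero_of_dvd (hv5 0))
    (v 1) (bd _ (by linarith)) (by omega) (Int.emod_eq_zero_of_dvd (hv5 1))
    (v 3) (bd _ (by linarith)) (by omega) (Int.emod_eq_zero_of_dvd (hv5 3))
    (v 4) (bd _ (by linarith)) (by omega) (Int.emod_eq_zero_of_dvd (hv5 4))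
  rw [f5, f6, f2] at hv
  nlinarith

end Cfsg.Agent.H734.KKL
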